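import Mathlib
import Groth.Prelude.Def_CAlg
import Groth.Agent.GorLib.LocInjDim
import Groth.Agent.GorLib.LocalDuality
import Groth.Agent.GorLib.DepthVanish
import Groth.Agent.FlatDepth.Basic
import Groth.Agent.DeformLib.FlatLift
import Groth.Agent.AcyclicLemma.Basic
import Groth.Agent.MiracleFlatLib.Basic

/-!
Linkage by a Cohen–Macaulay ideal of codimension zero in a Gorenstein local ring.
-/

set_option autoImplicit false

universe u

namespace Groth.Agent.GorLinkLib

open CategoryTheory IsLocalRing RingTheory.Sequence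
open scoped Pointwise

variable {A : Type u} [CommRing A] (I : Ideal A)

/-- `Ext^i(A/I, N) = 0` for positive `i`. -/
def Vanish (N : Type u) [AddCommGroup N] [Module A N] : Prop :=
  ∀ i, Subsingleton (Abelian.Ext (ModuleCat.of A (A ⧸ I)) (ModuleCat.of A N) (i + 1))

variable {I}

theorem Vanish.quot {N : Type u} [AddCommGroup N] [Module A N] (h : Vanish I N) {r : A}
    (hr : IsSMulRegular N r) : Vanish I (QuotSMulTop r N) := by
  intro i
  have hexact : Function.Exact (r • LinearMap.id : N →ₗ[A] N) (r • (⊤ : Submodule A N)).mkQ := by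
    intro y
    rw [Submodule.mkQ_apply, Submodule.Quotient.mk_eq_zero, Submodule.mem_smul_pointwise_iff_exists]
    exact ⟨fun ⟨x, _, hx⟩ => ⟨x, hx⟩, fun ⟨x, hx⟩ => ⟨x, trivial, hx⟩⟩
  have hS := GorLib.shortExact_mkQ (r • LinearMap.id : N →ₗ[A] N) (r • (⊤ : Submodule A N)).mkQ
    (fun a b hab => hr hab) (Submodule.mkQ_surjective _) hexact
  haveI := h i
  haveI := h (i + 1)
  refine ⟨fun a b => ?_⟩
  obtain ⟨x, rfl⟩ := Abelian.Ext.covariant_sequence_exact₃ (ModuleCat.of A (A ⧸ I)) hS a rfl (Subsingleton.elim _ _)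
  obtain ⟨y, rfl⟩ := Abelian.Ext.covariant_sequence_exact₃ (ModuleCat.of A (A ⧸ I)) hS b rfl (Subsingleton.elim _ _)
  exact congrArg (fun e => Abelian.Ext.comp e (Abelian.Ext.mk₀ _) (add_zero _)) (Subsingleton.elim x y)

theorem exists_extend {N : Type u} [AddCommGroup N] [Module A N] (h : Vanish I N) (g : I →ₗ[A] N) :
    ∃ n : N, ∀ a : I, g a = (a : A) • n := by
  haveI := h 0
  have hT := GorLib.shortExact_mkQ (I.subtype : I →ₗ[A] A) (Submodule.mkQ I) Subtype.val_injective
    (Submodule.mkQ_surjective _) (LinearMap.exact_subtype_mkQ I)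
  obtain ⟨y, hy⟩ := Abelian.Ext.contravariant_sequence_exact₁ hT (ModuleCat.of A N)
    (Abelian.Ext.mk₀ (ModuleCat.ofHom g : ModuleCat.of A I ⟶ ModuleCat.of A N)) (show 1 + 0 = 1 from rfl)
    (Subsingleton.elim _ _)
  obtain ⟨ψ, rfl⟩ := (Abelian.Ext.mk₀_bijective _ _).2 y
  rw [Abelian.Ext.mk₀_comp_mk₀] at hy
  have h1 : ψ.hom.comp (I.subtype : I →ₗ[A] A) = g := congrArg ModuleCat.Hom.hom ((Abelian.Ext.mk₀_bijective _ _).1 hy)
  refine ⟨ψ.hom 1, fun a => ?_⟩
  rw [← h1, ← map_smul, smul_eq_mul, mul_one]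
  rfl

variable (I) in
/-- Elements killed by `I`. -/
abbrev ann (N : Type u) [AddCommGroup N] [Module A N] : Submodule A N :=
  Submodule.torsionBySet A N (I : Set A)

/-- Elements killed by `I` modulo a regular element lift. -/
theorem exists_lift {N : Type u} [AddCommGroup N] [Module A N] (h : Vanish I N) {r : A}
    (hr : IsSMulRegular N r) (n : N) (hn : Submodule.Quotient.mk n ∈ ann I (QuotSMulTop r N)) :
    ∃ j ∈ ann I N, n - j ∈ r • (⊤ : Submodule A N) := by
  rw [Submodule.mem_torsionBySet_iff] at hn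
  have hy : ∀ a : I, ∃ y, r • y = (a : A) • n := fun a => by
    have h1 := hn ⟨a, a.2⟩
    rw [← Submodule.Quotient.mk_smul, Submodule.Quotient.mk_eq_zero, Submodule.mem_smul_pointwise_iff_exists] at h1
    obtain ⟨y, -, hy⟩ := h1
    exact ⟨y, hy⟩
  choose y hy using hy
  let g : I →ₗ[A] N :=
    { toFun := y
      map_add' := fun a b => hr (by
        show r • y (a + b) = r • (y a + y b)
        rw [smul_add, hy, hy, hy, Submodule.coe_add, add_smul])
      map_smul' := fun c a => hr (by
        show r • y (c • a) = r • (c • y a)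
        rw [smul_comm r c, hy, hy, Submodule.coe_smul, smul_eq_mul, mul_smul]) }
  obtain ⟨t, ht⟩ := exists_extend h g
  refine ⟨n - r • t, (Submodule.mem_torsionBySet_iff _ _).2 fun a => ?_, ?_⟩
  · rw [smul_sub, smul_comm, ← ht ⟨a, a.2⟩]
    exact sub_eq_zero.2 (hy ⟨a, a.2⟩).symm
  · rw [sub_sub_cancel, Submodule.mem_smul_pointwise_iff_exists]
    exact ⟨t, trivial, rfl⟩

theorem map_quot_ofList {N : Type u} [AddCommGroup N] [Module A N] (r : A) (rs : List A) :
    (Ideal.ofList (r :: rs) • ⊤ : Submodule A N) =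
      ((Ideal.ofList rs • ⊤ : Submodule A (QuotSMulTop r N))).comap (r • (⊤ : Submodule A N)).mkQ := by
  have h : (Ideal.ofList rs • ⊤ : Submodule A (QuotSMulTop r N)) =
      (Ideal.ofList rs • ⊤ : Submodule A N).map (r • (⊤ : Submodule A N)).mkQ := by
    rw [Submodule.map_smul'', Submodule.map_top, Submodule.range_mkQ]
  rw [h, Submodule.comap_map_mkQ, Ideal.ofList_cons, Submodule.sup_smul, Submodule.ideal_span_singleton_smul]

theorem mk_mem_ann {N : Type u} [AddCommGroup N] [Module A N] (P : Submodule A N) {n : N} (h : n ∈ ann I N) :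
    Submodule.Quotient.mk n ∈ ann I (N ⧸ P) := by
  rw [Submodule.mem_torsionBySet_iff] at h ⊢
  intro a
  rw [← Submodule.Quotient.mk_smul, h a]
  rfl

/-- The colon by `I` modulo a regular sequence. -/
theorem colon_eq : ∀ (rs : List A) (N : Type u) [AddCommGroup N] [Module A N], Vanish I N → IsWeaklyRegular N rs →
    (∀ n : N, (∀ a ∈ I, a • n ∈ (Ideal.ofList rs • ⊤ : Submodule A N)) →
      n ∈ ann I N ⊔ Ideal.ofList rs • ⊤) ∧
    (ann I N ⊓ Ideal.ofList rs • ⊤ ≤ Ideal.ofList rs • ann I N) := by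
  intro rs
  induction rs with
  | nil =>
    intro N _ _ _ _
    simp only [Ideal.ofList_nil, Submodule.bot_smul, Submodule.mem_bot, inf_bot_eq, sup_bot_eq, le_refl, and_true]
    exact fun n hn => (Submodule.mem_torsionBySet_iff _ _).2 fun a => hn a a.2
  | cons r rs ih =>
    intro N _ _ hN hreg
    obtain ⟨hr, hrs⟩ := (isWeaklyRegular_cons_iff N r rs).1 hreg
    let N' := QuotSMulTop r N
    let q := (r • (⊤ : Submodule A N)).mkQ
    obtain ⟨hcol, hint⟩ := ih N' (hN.quot hr) hrs
    constructor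
    · intro n hn
      rw [map_quot_ofList] at hn ⊢
      have h1 := hcol (q n) fun a ha => by rw [← map_smul]; exact hn a ha
      obtain ⟨j', hj', t', ht', hjt⟩ := Submodule.mem_sup.1 h1
      obtain ⟨m, rfl⟩ := Submodule.mkQ_surjective _ j'
      obtain ⟨j, hj, hjm⟩ := exists_lift hN hr m hj'
      rw [show n = j + (n - j) by abel]
      refine Submodule.add_mem_sup hj ?_
      rw [Submodule.mem_comap]
      have hqj : q m = q j := (Submodule.Quotient.eq _).2 hjm
      rw [map_sub, ← hjt]
      show _ + t' - q j ∈ _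
      rw [show (r • (⊤ : Submodule A N)).mkQ m = q j from hqj, add_sub_cancel_left]
      exact ht'
    · rintro x ⟨hx, hx'⟩
      rw [SetLike.mem_coe, map_quot_ofList] at hx'
      have h1 : q x ∈ Ideal.ofList rs • ann I N' := hint ⟨mk_mem_ann _ hx, hx'⟩
      have h2 : ann I N' ≤ (ann I N).map q := fun y hy => by
        obtain ⟨m, rfl⟩ := Submodule.mkQ_surjective _ y
        obtain ⟨j, hj, hjm⟩ := exists_lift hN hr m hy
        exact ⟨j, hj, ((Submodule.Quotient.eq _).2 hjm).symm⟩
      have h3 := Submodule.smul_mono (le_refl (Ideal.ofList rs)) h2 h1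
      rw [← Submodule.map_smul''] at h3
      obtain ⟨z, hz, hzx⟩ := h3
      rw [show x = (x - z) + z by abel]
      have hzann : z ∈ ann I N := Submodule.smul_le_right hz
      have hd : x - z ∈ r • (⊤ : Submodule A N) := (Submodule.Quotient.eq _).1 hzx.symm
      obtain ⟨t, -, ht⟩ := (Submodule.mem_smul_pointwise_iff_exists _ _ _).1 hd
      rw [Ideal.ofList_cons, Submodule.sup_smul]
      refine Submodule.add_mem_sup ?_ hz
      rw [← ht]
      refine Submodule.smul_mem_smul (Ideal.mem_span_singleton_self r) ?_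
      have hxz : r • t ∈ ann I N := ht ▸ sub_mem hx hzann
      rw [Submodule.mem_torsionBySet_iff] at hxz ⊢
      exact fun a => hr (by show r • ((a : A) • t) = r • 0; rw [smul_zero, smul_comm]; exact hxz a)

theorem isWeaklyRegular_quot_ann {N : Type u} [AddCommGroup N] [Module A N] (h : Vanish I N) (rs : List A)
    (hreg : IsWeaklyRegular N rs) : IsWeaklyRegular (N ⧸ ann I N) rs := by
  rw [isWeaklyRegular_iff] at hreg ⊢
  intro i hi
  let P := Ideal.ofList (rs.take i)
  have hpre : IsWeaklyRegular N (rs.take i) := by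
    have h2 : IsWeaklyRegular N (rs.take i ++ rs.drop i) := by
      rw [List.take_append_drop]
      exact (isWeaklyRegular_iff N rs).2 hreg
    exact ((isWeaklyRegular_append_iff N _ _).1 h2).1
  obtain ⟨hcol, -⟩ := colon_eq _ _ h hpre
  have hmap : (P • ⊤ : Submodule A (N ⧸ ann I N)).comap (ann I N).mkQ = ann I N ⊔ P • ⊤ := by
    rw [show (P • ⊤ : Submodule A (N ⧸ ann I N)) = (P • ⊤ : Submodule A N).map (ann I N).mkQ by
      rw [Submodule.map_smul'', Submodule.map_top, Submodule.range_mkQ], Submodule.comap_map_mkQ]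
  refine IsSMulRegular.of_right_eq_zero_of_smul ?_
  intro z hz
  obtain ⟨y, rfl⟩ := Submodule.mkQ_surjective _ z
  rw [← map_smul, Submodule.mkQ_apply, Submodule.Quotient.mk_eq_zero] at hz
  rw [Submodule.mkQ_apply, Submodule.Quotient.mk_eq_zero]
  revert hz
  intro hy
  obtain ⟨n, rfl⟩ := Submodule.mkQ_surjective _ y
  rw [← map_smul, ← Submodule.mem_comap, hmap, Submodule.mem_sup] at hy
  obtain ⟨j, hj, t, ht, hjt⟩ := hy
  rw [← Submodule.mem_comap, hmap]
  refine hcol n fun a ha => ?_
  refine (Submodule.Quotient.mk_eq_zero _).1 ((hreg i hi).right_eq_zero_of_smul ?_)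
  rw [← Submodule.Quotient.mk_smul, Submodule.Quotient.mk_eq_zero]
  rw [smul_comm, ← hjt, smul_add, (Submodule.mem_torsionBySet_iff _ _).1 hj ⟨a, ha⟩, zero_add]
  exact Submodule.smul_mem _ a ht

end Groth.Agent.GorLinkLib
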