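import Groth.Agent.GorLinkLib.Basic

/-!
Cohen–Macaulay ideals of codimension zero in Gorenstein local rings.
-/

set_option autoImplicit false

universe u

namespace Groth.Agent.GorLinkLib

open CategoryTheory IsLocalRing RingTheory.Sequence

variable {A : Type u} [CommRing A] [LocCoh.IsGorensteinLocalRing A] (I : Ideal A)

theorem vanish_self (hI : ringKrullDim (A ⧸ I) = ringKrullDim A) [LocCoh.IsCohenMacaulayLocalRing (A ⧸ I)] :
    Vanish I A := by
  obtain ⟨d, hd⟩ := RegLocal.exists_nat_ringKrullDim (R := A)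
  intro i
  rcases lt_or_ge i d with hi | hi
  · rw [← GorLib.subsingleton_H_iff_ext inferInstance hd (A ⧸ I) (d - (i + 1)) (i + 1) (by omega)]
    refine (GorLib.natCast_le_depth_iff_subsingleton_H (A ⧸ I) d).1 (le_of_eq ?_) _ (by omega)
    rw [← FlatDepth.depth_of_surjective (S := A) (R := A ⧸ I) Ideal.Quotient.mk_surjective (A ⧸ I)]
    have h := LocCoh.IsCohenMacaulayLocalRing.supportDim_eq_depth (R := A ⧸ I)
    rw [Module.supportDim_self_eq_ringKrullDim, hI, hd] at h
    exact WithBot.coe_inj.mp h
  · haveI := (GorLib.injectiveDimension_local d A inferInstance hd.le).1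
    exact HasInjectiveDimensionLT.subsingleton (ModuleCat.of A A) (d + 1) (i + 1) (by omega) _

omit [LocCoh.IsGorensteinLocalRing A] in
theorem ann_self : ann I A = Submodule.annihilator I := by
  ext a
  rw [Submodule.mem_torsionBySet_iff, Submodule.mem_annihilator]
  simp only [smul_eq_mul, Subtype.forall, SetLike.mem_coe, mul_comm a]

theorem isWeaklyRegular_quot (hI : ringKrullDim (A ⧸ I) = ringKrullDim A) [LocCoh.IsCohenMacaulayLocalRing (A ⧸ I)]
    (rs : List A) (hmem : ∀ x ∈ rs, x ∈ maximalIdeal A) (hreg : IsWeaklyRegular A rs) :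
    IsWeaklyRegular (A ⧸ I) rs := by
  classical
  let f := Ideal.Quotient.mk I
  suffices h : IsWeaklyRegular (A ⧸ I) (rs.map (algebraMap A (A ⧸ I))) from
    (isWeaklyRegular_map_algebraMap_iff (A ⧸ I) (A ⧸ I) rs).1 h
  have hmem' : ∀ x ∈ rs.map f, x ∈ maximalIdeal (A ⧸ I) := by
    intro x hx
    obtain ⟨a, ha, rfl⟩ := List.mem_map.1 hx
    intro hu
    haveI : IsLocalHom f := IsLocalHom.of_surjective f Ideal.Quotient.mk_surjective
    exact hmem a ha (isUnit_of_map_unit f a hu)
  refine DeformLib.isWeaklyRegular_of_ringKrullDim (rs.map f) hmem' (le_antisymm ?_ ?_)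
  · rw [hI, ← ringKrullDim_add_length_eq_ringKrullDim_of_isRegular rs
      (Depth.isRegular_of_isWeaklyRegular (I := maximalIdeal A)
        (by rw [smul_eq_mul, Ideal.mul_top]; exact (maximalIdeal.isMaximal A).ne_top) hreg hmem), List.length_map]
    gcongr
    refine ringKrullDim_le_of_surjective (Ideal.quotientMap _ f ?_) (Ideal.quotientMap_surjective Ideal.Quotient.mk_surjective)
    rw [← Ideal.map_le_iff_le_comap, Ideal.map_ofList]
  · refine (ringKrullDim_le_ringKrullDim_quotient_add_card (rs.map f).toFinset ?_).trans ?_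
    · intro x hx
      rw [List.coe_toFinset] at hx
      rw [Ring.jacobson_eq_sInf_isMaximal] 
      refine Submodule.mem_sInf.2 fun M hM => ?_
      rw [eq_maximalIdeal hM]
      exact hmem' x hx
    · rw [List.coe_toFinset]
      show ringKrullDim ((A ⧸ I) ⧸ Ideal.ofList (rs.map f)) + _ ≤ _
      gcongr
      exact_mod_cast List.toFinset_card_le _

end Groth.Agent.GorLinkLib
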